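import Cfsg.Agent.Lib.Coprime.Glauberman
import Cfsg.Agent.S0660

/-!
# Coprime action by automorphisms (`MulDistribMulAction`)
-/

namespace Cfsg.Agent.Lib.Coprime

open Subgroup MulAction
open scoped Pointwise

variable {A G : Type*} [Group A] [Group G] [Finite A] [Finite G] [MulDistribMulAction A G]

/-- Coprime action by automorphisms: an invariant Sylow subgroup exists. -/
theorem exists_smul_invariant_sylow (hcop : (Nat.card A).Coprime (Nat.card G))
    (hsolv : Group.IsSolvable A ∨ Group.IsSolvable G) (p : ℕ) [Fact p.Prime] :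
    ∃ P : Sylow p G, ∀ a : A, ∀ x ∈ (P : Subgroup G), a • x ∈ (P : Subgroup G) := by
  obtain ⟨P, hP⟩ := exists_fixed_point (MulDistribMulAction.toMulAut A G) (X := Sylow p G)
    (fun a k P => by
      refine Sylow.ext ?_
      rw [Sylow.pointwise_smul_def, Sylow.coe_subgroup_smul, Sylow.coe_subgroup_smul,
        Sylow.pointwise_smul_def]
      ext y
      simp [mem_pointwise_smul_iff_inv_smul_mem, smul_inv', MulAut.smul_def])
    hcop hsolv inferInstance
  refine ⟨P, fun a x hx => ?_⟩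
  rw [← hP a, Sylow.pointwise_smul_def]
  exact smul_mem_pointwise_smul x a _ hx

/-- In an elementary abelian group every subgroup has a complement. -/
theorem exists_complement_of_pow_eq_one {V : Type*} [Group V] [Finite V] {p : ℕ} (hp : p.Prime)
    (hc : ∀ x y : V, x * y = y * x) (he : ∀ x : V, x ^ p = 1) (U : Subgroup V) :
    ∃ W : Subgroup V, U ⊓ W = ⊥ ∧ U ⊔ W = ⊤ := by
  obtain ⟨W, hW, hmax⟩ := Set.Finite.exists_maximal (s := {W : Subgroup V | U ⊓ W = ⊥})
    (Set.toFinite _) ⟨⊥, inf_bot_eq U⟩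
  refine ⟨W, hW, eq_top_iff.mpr fun x _ => ?_⟩
  by_contra hx
  have hxW : x ∉ W := fun h => hx (mem_sup_right h)
  have hne : U ⊓ (W ⊔ zpowers x) ≠ ⊥ := fun h =>
    hxW (hmax h le_sup_left (mem_sup_right (mem_zpowers x)))
  obtain ⟨u, hu, hu1⟩ := (U ⊓ (W ⊔ zpowers x)).bot_or_exists_ne_one.resolve_left hne
  haveI : W.Normal := ⟨fun y hy g => by rw [hc g y, mul_inv_cancel_right]; exact hy⟩
  have h2 : u ∈ ((W ⊔ zpowers x : Subgroup V) : Set V) := hu.2
  rw [normal_mul] at h2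
  obtain ⟨w, hw, y, hy, rfl⟩ := h2
  obtain ⟨i, rfl⟩ := mem_zpowers_iff.mp hy
  by_cases hi : (p : ℤ) ∣ i
  · obtain ⟨j, rfl⟩ := hi
    have hy1 : x ^ ((p : ℤ) * j) = 1 := by rw [zpow_mul, zpow_natCast, he, one_zpow]
    refine hu1 (mem_bot.mp (hW ▸ ⟨hu.1, ?_⟩))
    change w * x ^ ((p : ℤ) * j) ∈ W
    rw [hy1, mul_one]
    exact hw
  · obtain ⟨a, b, hab⟩ := Int.isCoprime_iff_gcd_eq_one.mpr (Int.isCoprime_iff_gcd_eq_one.mp
      ((Nat.prime_iff_prime_int.mp hp).coprime_iff_not_dvd.mpr hi))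
    apply hx
    have hxi : x ^ i ∈ U ⊔ W := by
      rw [show x ^ i = w⁻¹ * (w * x ^ i) by group]
      exact mul_mem (mem_sup_right (W.inv_mem hw)) (mem_sup_left hu.1)
    have hx1 : x = (x ^ i) ^ b := by
      calc x = x ^ (a * (p : ℤ) + b * i) := by rw [hab, zpow_one]
        _ = (x ^ (p : ℤ)) ^ a * (x ^ i) ^ b := by
          rw [zpow_add, mul_comm a, mul_comm b, zpow_mul, zpow_mul]
        _ = (x ^ i) ^ b := by rw [zpow_natCast, he, one_zpow, one_mul]
    rw [hx1]
    exact zpow_mem hxi b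

omit [MulDistribMulAction A G] in
/-- Coprime Maschke for elementary abelian groups. -/
theorem exists_invariant_complement {V : Type*} [Group V] [Finite V] (φ : A →* MulAut V) {p : ℕ}
    (hp : p.Prime) (hc : ∀ x y : V, x * y = y * x) (he : ∀ x : V, x ^ p = 1)
    (hcop : (Nat.card A).Coprime (Nat.card V)) (U : Subgroup V)
    (hU : ∀ a : A, ∀ x ∈ U, φ a x ∈ U) :
    ∃ W : Subgroup V, (∀ a : A, ∀ x ∈ W, φ a x ∈ W) ∧ U ⊓ W = ⊥ ∧ U ⊔ W = ⊤ := by
  obtain ⟨W₀, h1, h2⟩ := exists_complement_of_pow_eq_one hp hc he U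
  haveI : Finite (V ⋊[φ] A) := Finite.of_equiv _ SemidirectProduct.equivProd.symm
  set f : V →* V ⋊[φ] A := SemidirectProduct.inl with hf
  have hfi : Function.Injective f := SemidirectProduct.inl_injective
  have hnorm : ∀ S : Subgroup V, (∀ a : A, ∀ x ∈ S, φ a x ∈ S) →
      (SemidirectProduct.inr : A →* V ⋊[φ] A).range ≤
        normalizer ((S.map f : Subgroup (V ⋊[φ] A)) : Set (V ⋊[φ] A)) := by
    intro S hS
    rintro _ ⟨a, rfl⟩
    rw [mem_normalizer_iff]
    intro y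
    constructor
    · rintro ⟨x, hx, rfl⟩
      exact ⟨φ a x, hS a x hx, by rw [hf, SemidirectProduct.inl_aut, map_inv]⟩
    · rintro ⟨x, hx, hxy⟩
      refine ⟨φ a⁻¹ x, hS a⁻¹ x hx, ?_⟩
      rw [hf, SemidirectProduct.inl_aut, ← hf, hxy]
      simp [mul_assoc]
  obtain ⟨W', hW'V, hW'A, hUW, hUWV⟩ := Cfsg.Agent.S0660.result ((⊤ : Subgroup V).map f)
    (SemidirectProduct.inr : A →* V ⋊[φ] A).range (U.map f)
    ⟨⟨by
      rintro ⟨_, x, -, rfl⟩ ⟨_, y, -, rfl⟩
      exact Subtype.ext (by change f x * f y = f y * f x; rw [← map_mul, ← map_mul, hc])⟩⟩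
    (hnorm ⊤ fun _ _ _ => mem_top _)
    (by
      rw [← Nat.card_congr (MonoidHom.ofInjective (SemidirectProduct.inr_injective :
          Function.Injective (SemidirectProduct.inr : A →* V ⋊[φ] A))).toEquiv,
        card_map_of_injective hfi, card_top]
      exact hcop)
    (map_mono le_top) (hnorm U hU) (W₀.map f) (map_mono le_top)
    (by rw [← map_inf _ _ f hfi, h1, Subgroup.map_bot])
    (by rw [← Subgroup.map_sup, h2])
  have hmap : (W'.comap f).map f = W' :=
    map_comap_eq_self (hW'V.trans (map_le_range f ⊤))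
  refine ⟨W'.comap f, fun a x hx => ?_, ?_, ?_⟩
  · rw [mem_comap, hf, SemidirectProduct.inl_aut, map_inv]
    exact (mem_normalizer_iff.mp (hW'A ⟨a, rfl⟩) _).mp hx
  · apply map_injective hfi
    rw [map_inf _ _ f hfi, hmap, hUW, Subgroup.map_bot]
  · apply map_injective hfi
    rw [Subgroup.map_sup, hmap, hUWV]

end Cfsg.Agent.Lib.Coprime
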