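import Mathlib

/-!
# Product of fixed-point orders under a coprime action of a `p`-group on a `q`-group

`(∏ x, |C_K(x)|) ^ p ≤ |K| ^ |P| * |C_K(P)| ^ ((p-1)|P|)`.
-/

set_option autoImplicit false

namespace Cfsg.Agent.Lib.Coprime

universe u v

variable {P : Type u} {K : Type v} [Group P] [Group K]

/-- The points fixed by the subgroup `A` of the acting group. -/
def fixedSub (φ : P →* MulAut K) (A : Subgroup P) : Subgroup K where
  carrier := {k | ∀ a ∈ A, φ a k = k}
  one_mem' := fun a _ => map_one (φ a)
  mul_mem' := fun {k l} hk hl a ha => by rw [map_mul, hk a ha, hl a ha]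
  inv_mem' := fun {k} hk a ha => by rw [map_inv, hk a ha]

theorem mem_fixedSub {φ : P →* MulAut K} {A : Subgroup P} {k : K} :
    k ∈ fixedSub φ A ↔ ∀ a ∈ A, φ a k = k := Iff.rfl

theorem mem_fixedSub_zpowers {φ : P →* MulAut K} {x : P} {k : K} :
    k ∈ fixedSub φ (Subgroup.zpowers x) ↔ φ x k = k := by
  refine ⟨fun h => h x (Subgroup.mem_zpowers x), fun h a ha => ?_⟩
  obtain ⟨i, rfl⟩ := Subgroup.mem_zpowers_iff.mp ha
  letI := MulDistribMulAction.compHom K φ
  have hx : x ∈ MulAction.stabilizer P k := h
  exact Subgroup.zpow_mem (MulAction.stabilizer P k) hx i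

section quotient

variable (φ : P →* MulAut K) (V : Subgroup K) (hV : ∀ a, ∀ v ∈ V, φ a v ∈ V)

/-- Restriction of an action to an invariant subgroup. -/
def subAut : P →* MulAut V where
  toFun a :=
    { toFun := fun v => ⟨φ a v, hV a v v.2⟩
      invFun := fun v => ⟨φ a⁻¹ v, hV a⁻¹ v v.2⟩
      left_inv := fun v => Subtype.ext (by
        show φ a⁻¹ (φ a v) = v
        rw [← MulAut.mul_apply, ← map_mul, inv_mul_cancel, map_one, MulAut.one_apply])
      right_inv := fun v => Subtype.ext (by
        show φ a (φ a⁻¹ v) = v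
        rw [← MulAut.mul_apply, ← map_mul, mul_inv_cancel, map_one, MulAut.one_apply])
      map_mul' := fun v w => Subtype.ext (map_mul (φ a) (v : K) w) }
  map_one' := by ext v; simp
  map_mul' a b := by ext v; simp

include hV in
theorem map_eq_of_invariant (a : P) : V.map (φ a).toMonoidHom = V := by
  refine le_antisymm ?_ fun v hv => ⟨φ a⁻¹ v, hV a⁻¹ v hv, ?_⟩
  · rintro _ ⟨v, hv, rfl⟩; exact hV a v hv
  · show φ a (φ a⁻¹ v) = v
    rw [← MulAut.mul_apply, ← map_mul, mul_inv_cancel, map_one, MulAut.one_apply]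

/-- The action induced on a quotient. -/
def quotAut [V.Normal] : P →* MulAut (K ⧸ V) where
  toFun a := QuotientGroup.congr V V (φ a) (map_eq_of_invariant φ V hV a)
  map_one' := by
    ext q; obtain ⟨k, rfl⟩ := QuotientGroup.mk_surjective q
    simp
  map_mul' a b := by
    ext q; obtain ⟨k, rfl⟩ := QuotientGroup.mk_surjective q
    simp only [map_mul]
    rfl

/-- Fixed points of a coprime `p`-group action split along an invariant normal subgroup. -/
theorem card_fixedSub_split [Finite P] [Finite K] [V.Normal] {p : ℕ} [Fact p.Prime]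
    (hP : IsPGroup p P) (hpV : ¬ p ∣ Nat.card V) (A : Subgroup P) :
    Nat.card (fixedSub φ A) =
      Nat.card (fixedSub (subAut φ V hV) A) * Nat.card (fixedSub (quotAut φ V hV) A) := by
  let f : fixedSub φ A →* K ⧸ V := (QuotientGroup.mk' V).comp (fixedSub φ A).subtype
  have hker : Nat.card f.ker = Nat.card (fixedSub (subAut φ V hV) A) := by
    refine Nat.card_congr
      { toFun := fun k => ⟨⟨k.1, (QuotientGroup.eq_one_iff _).mp k.2⟩, fun a ha => Subtype.ext (k.1.2 a ha)⟩
        invFun := fun v => ⟨⟨v.1, fun a ha => congrArg Subtype.val (v.2 a ha)⟩,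
          (QuotientGroup.eq_one_iff _).mpr v.1.2⟩
        left_inv := fun k => rfl
        right_inv := fun v => rfl }
  have hrange : f.range = fixedSub (quotAut φ V hV) A := by
    refine le_antisymm ?_ fun q hq => ?_
    · rintro _ ⟨k, rfl⟩ a ha
      show ((φ a (k : K) : K) : K ⧸ V) = ((k : K) : K ⧸ V)
      rw [k.2 a ha]
    · obtain ⟨k₀, hk₀⟩ := QuotientGroup.mk_surjective q
      have hst : ∀ (a : A) (k : {k : K // (k : K ⧸ V) = q}), ((φ a.1 k.1 : K) : K ⧸ V) = q := by
        intro a k
        have h1 : quotAut φ V hV a.1 (k.1 : K ⧸ V) = (k.1 : K ⧸ V) := by rw [k.2]; exact hq a.1 a.2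
        exact h1.trans k.2
      letI : MulAction A {k : K // (k : K ⧸ V) = q} :=
        { smul := fun a k => ⟨φ a.1 k.1, hst a k⟩
          one_smul := fun k => Subtype.ext (by show φ ((1 : A) : P) k.1 = k.1; simp)
          mul_smul := fun a b k => Subtype.ext (by
            show φ ((a * b : A) : P) k.1 = φ a.1 (φ b.1 k.1); simp) }
      have hcard : Nat.card {k : K // (k : K ⧸ V) = q} = Nat.card V := by
        refine Nat.card_congr
          { toFun := fun k => ⟨k₀⁻¹ * k.1, (QuotientGroup.eq).mp (hk₀.trans k.2.symm)⟩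
            invFun := fun v => ⟨k₀ * v.1, by rw [QuotientGroup.mk_mul_of_mem k₀ v.2, hk₀]⟩
            left_inv := fun k => Subtype.ext (mul_inv_cancel_left _ _)
            right_inv := fun v => Subtype.ext (inv_mul_cancel_left _ _) }
      obtain ⟨k, hk⟩ := (hP.to_subgroup A).nonempty_fixed_point_of_prime_not_dvd_card
        {k : K // (k : K ⧸ V) = q} (hcard ▸ hpV)
      exact ⟨⟨k.1, fun a ha => congrArg Subtype.val (hk ⟨a, ha⟩)⟩, k.2⟩
  rw [← hker, ← hrange, ← Subgroup.index_ker]
  exact f.ker.card_mul_index.symm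

end quotient

/-- Fixed spaces of the twists `X Z ^ i` of a fixed-point-free `Z` of prime order are independent. -/
theorem prod_card_twist_le {K : Type v} [CommGroup K] [Finite K] {p : ℕ} [Fact p.Prime]
    (X Z : MulAut K) (hXZ : Commute X Z) (hZp : Z ^ p = 1) (hZ : ∀ v, Z v = v → v = 1)
    (F : Fin p → Subgroup K) (hF : ∀ i v, v ∈ F i ↔ X ((Z ^ (i : ℕ)) v) = v) :
    ∏ i : Fin p, Nat.card (F i) ≤ Nat.card K := by
  have hfp : ∀ k : ℕ, ¬ p ∣ k → ∀ v, (Z ^ k) v = v → v = 1 := by
    intro k hk v hv
    have hco : k.Coprime (orderOf Z) :=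
      Nat.Coprime.coprime_dvd_right (orderOf_dvd_of_pow_eq_one hZp)
        ((Nat.Prime.coprime_iff_not_dvd Fact.out).mpr hk).symm
    obtain ⟨m, hm⟩ := exists_pow_eq_self_of_coprime hco
    refine hZ v ?_
    rw [← hm]
    clear hm
    induction m with
    | zero => simp
    | succ m ih => rw [pow_succ, MulAut.mul_apply, hv, ih]
  have hsep : ∀ i j : Fin p, i ≠ j → ∀ v, v ∈ F i → v ∈ F j → v = 1 := by
    have key : ∀ i j : Fin p, (i : ℕ) < j → ∀ v, v ∈ F i → v ∈ F j → v = 1 := by
      intro i j hij v hi hj
      have h1 : (Z ^ (i : ℕ)) v = (Z ^ (j : ℕ)) v :=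
        X.injective (((hF i v).mp hi).trans ((hF j v).mp hj).symm)
      rw [show (j : ℕ) = i + (j - i) by omega, pow_add, MulAut.mul_apply] at h1
      refine hfp (j - i) (fun h => ?_) v ((Z ^ (i : ℕ)).injective h1).symm
      have := Nat.le_of_dvd (by omega) h
      have := j.2
      omega
    intro i j hne v hi hj
    rcases lt_or_gt_of_ne (Fin.val_ne_of_ne hne) with h | h
    · exact key i j h v hi hj
    · exact key j i h v hj hi
  have hind : ∀ s : Finset (Fin p), ∀ v : Fin p → K, (∀ i ∈ s, v i ∈ F i) → ∏ i ∈ s, v i = 1 →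
      ∀ i ∈ s, v i = 1 := by
    intro s
    induction s using Finset.induction_on with
    | empty => simp
    | @insert a s ha ih =>
      intro v hv hprod
      -- `D` kills `F a` and preserves every `F i`
      let D : K →* K :=
        { toFun := fun w => X ((Z ^ (a : ℕ)) w) * w⁻¹
          map_one' := by simp
          map_mul' := fun w w' => by
            simp only [map_mul, mul_inv_rev]
            rw [mul_comm w'⁻¹ w⁻¹]
            exact mul_mul_mul_comm _ _ _ _ }
      have hD : ∀ i w, w ∈ F i → D w ∈ F i := by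
        intro i w hw
        rw [hF] at hw ⊢
        have hc : ∀ u, X ((Z ^ (i : ℕ)) (X ((Z ^ (a : ℕ)) u))) = X ((Z ^ (a : ℕ)) (X ((Z ^ (i : ℕ)) u))) := by
          intro u
          have hcm : Commute (X * Z ^ (i : ℕ)) (X * Z ^ (a : ℕ)) :=
            ((Commute.refl X).mul_right (hXZ.pow_right _)).mul_left
              (((hXZ.pow_right (i : ℕ)).symm).mul_right (Commute.pow_pow_self Z _ _))
          exact DFunLike.congr_fun hcm.eq u
        show X ((Z ^ (i : ℕ)) (X ((Z ^ (a : ℕ)) w) * w⁻¹)) = X ((Z ^ (a : ℕ)) w) * w⁻¹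
        rw [map_mul, map_mul, hc, hw, map_inv, map_inv, hw]
      have hs : ∀ i ∈ s, D (v i) = 1 := by
        refine ih (fun i => D (v i)) (fun i hi => hD i _ (hv i (Finset.mem_insert_of_mem hi))) ?_
        have h1 := congrArg D hprod
        rw [map_one, map_prod, Finset.prod_insert ha] at h1
        have h2 : D (v a) = 1 :=
          mul_inv_eq_one.mpr ((hF a _).mp (hv a (Finset.mem_insert_self a s)))
        rwa [h2, one_mul] at h1
      have hs1 : ∀ i ∈ s, v i = 1 := fun i hi =>
        hsep i a (fun h => ha (h ▸ hi)) _ (hv i (Finset.mem_insert_of_mem hi))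
          ((hF a _).mpr (mul_inv_eq_one.mp (hs i hi)))
      intro i hi
      rcases Finset.mem_insert.mp hi with rfl | hi
      · rwa [Finset.prod_insert ha, Finset.prod_eq_one hs1, mul_one] at hprod
      · exact hs1 i hi
  let f : (∀ i, F i) → K := fun v => ∏ i, (v i : K)
  have hf : Function.Injective f := by
    intro v w h
    funext i
    refine Subtype.ext (div_eq_one.mp (hind Finset.univ (fun j => (v j : K) / (w j : K))
      (fun j _ => Subgroup.div_mem _ (v j).2 (w j).2) ?_ i (Finset.mem_univ i)))
    rw [Finset.prod_div_distrib]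
    exact div_eq_one.mpr h
  rw [← Nat.card_pi]
  exact Nat.card_le_card_of_injective f hf

/-- The product bound for a `p`-group acting on a `q`-group, `q ≠ p`. -/
theorem prod_card_fixedSub_le [Fintype P] [Finite K] {p q : ℕ} [Fact p.Prime] [Fact q.Prime]
    (hpq : p ≠ q) (hP : IsPGroup p P) (hK : IsPGroup q K) (φ : P →* MulAut K) :
    (∏ x : P, Nat.card (fixedSub φ (Subgroup.zpowers x))) ^ p ≤
      Nat.card K ^ Fintype.card P * Nat.card (fixedSub φ ⊤) ^ ((p - 1) * Fintype.card P) := by
  suffices H : ∀ n : ℕ, ∀ (K : Type v) [Group K] [Finite K], Nat.card K = n → IsPGroup q K →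
      ∀ φ : P →* MulAut K, (∏ x : P, Nat.card (fixedSub φ (Subgroup.zpowers x))) ^ p ≤
        Nat.card K ^ Fintype.card P * Nat.card (fixedSub φ ⊤) ^ ((p - 1) * Fintype.card P) from
    H _ K rfl hK φ
  intro n
  induction n using Nat.strong_induction_on with
  | _ n ih =>
    intro K _ _ hn hK φ
    have hp : p.Prime := Fact.out
    rcases subsingleton_or_nontrivial K with hsub | hnt
    · have h1 : ∀ H : Subgroup K, Nat.card H = 1 := fun H => Nat.card_unique
      simp [h1, Nat.card_unique (α := K)]
    haveI := hK.center_nontrivial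
    obtain ⟨V, ⟨hVc, hV1, hVinv⟩, hmin⟩ := Set.Finite.exists_minimal
      (s := {W : Subgroup K | W ≤ Subgroup.center K ∧ W ≠ ⊥ ∧ ∀ a, ∀ w ∈ W, φ a w ∈ W})
      (Set.toFinite _) ⟨Subgroup.center K, le_rfl, (Subgroup.nontrivial_iff_ne_bot _).mp inferInstance,
        fun a w hw => Subgroup.mem_center_iff.mpr fun k => by
          obtain ⟨k', rfl⟩ := (φ a).surjective k
          rw [← map_mul, ← map_mul, Subgroup.mem_center_iff.mp hw k']⟩
    haveI hVn : V.Normal := ⟨fun v hv g => by
      rw [Subgroup.mem_center_iff.mp (hVc hv) g, mul_inv_cancel_right]; exact hv⟩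
    have hpK : ¬ p ∣ Nat.card K := fun h => by
      obtain ⟨k, hk⟩ := IsPGroup.iff_card.mp hK
      exact hpq ((Nat.prime_dvd_prime_iff_eq hp Fact.out).mp (hp.dvd_of_dvd_pow (hk ▸ h)))
    by_cases hVtop : V = ⊤
    · -- no invariant subgroups
      have hcomm : ∀ a b : K, a * b = b * a := fun a b =>
        Subgroup.mem_center_iff.mp (hVc (hVtop ▸ Subgroup.mem_top b)) a
      letI : CommGroup K := { (inferInstance : Group K) with mul_comm := hcomm }
      by_cases htriv : ∀ a, φ a = 1
      · have h1 : ∀ A : Subgroup P, fixedSub φ A = ⊤ := fun A =>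
          eq_top_iff.mpr fun k _ a _ => by rw [htriv a]; rfl
        simp only [h1, Subgroup.card_top, Finset.prod_const, Finset.card_univ]
        rw [← pow_mul, ← pow_add]
        refine le_of_eq (congrArg _ ?_)
        have hle : Fintype.card P ≤ p * Fintype.card P := Nat.le_mul_of_pos_left _ hp.pos
        rw [Nat.sub_mul, one_mul, mul_comm (Fintype.card P) p]
        omega
      · push Not at htriv
        obtain ⟨a₀, ha₀⟩ := htriv
        haveI : Nontrivial φ.range :=
          (Subgroup.nontrivial_iff_ne_bot _).mpr fun h => ha₀ (by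
            have : φ a₀ ∈ φ.range := ⟨a₀, rfl⟩
            rwa [h, Subgroup.mem_bot] at this)
        have hRp : IsPGroup p φ.range := hP.of_surjective φ.rangeRestrict φ.rangeRestrict_surjective
        haveI := hRp.center_nontrivial
        obtain ⟨k, hk⟩ := IsPGroup.iff_card.mp (hRp.to_subgroup (Subgroup.center φ.range))
        have hk0 : k ≠ 0 := fun h => by
          have := Finite.one_lt_card (α := Subgroup.center φ.range)
          rw [hk, h] at this; simp at this
        obtain ⟨⟨⟨Z, ⟨z, hz⟩⟩, hZc⟩, hZo⟩ :=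
          exists_prime_orderOf_dvd_card' (G := Subgroup.center φ.range) p (hk ▸ dvd_pow_self p hk0)
        rw [← Subgroup.orderOf_coe, ← Subgroup.orderOf_coe] at hZo
        replace hZo : orderOf (φ z) = p := hz ▸ hZo
        have hcommZ : ∀ a, Commute (φ a) (φ z) := fun a => by
          have := congrArg Subtype.val (Subgroup.mem_center_iff.mp hZc ⟨φ a, ⟨a, rfl⟩⟩)
          show φ a * φ z = φ z * φ a
          rw [hz]
          exact this
        have hfpf : ∀ v, φ z v = v → v = 1 := by
          have hcases : fixedSub φ (Subgroup.zpowers z) = ⊥ := by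
            by_contra hne
            have hle := hmin (y := fixedSub φ (Subgroup.zpowers z))
              ⟨by rw [show Subgroup.center K = ⊤ from top_le_iff.mp (hVtop ▸ hVc)]; exact le_top, hne,
                fun a w hw => by
                  rw [mem_fixedSub_zpowers] at hw ⊢
                  rw [← MulAut.mul_apply, ← (hcommZ a).eq, MulAut.mul_apply, hw]⟩
              (hVtop ▸ le_top)
            have hall : φ z = 1 := MulEquiv.ext fun v =>
              mem_fixedSub_zpowers.mp (hle (hVtop ▸ Subgroup.mem_top v))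
            rw [hall, orderOf_one] at hZo
            exact hp.ne_one hZo.symm
          intro v hv
          have : v ∈ fixedSub φ (Subgroup.zpowers z) := mem_fixedSub_zpowers.mpr hv
          rwa [hcases, Subgroup.mem_bot] at this
        have hZp : φ z ^ p = 1 := by rw [← hZo]; exact pow_orderOf_eq_one _
        have htop : fixedSub φ ⊤ = ⊥ := (Subgroup.eq_bot_iff_forall _).mpr fun v hv => hfpf v (hv z trivial)
        rw [htop, Subgroup.card_bot, one_pow, mul_one]
        calc (∏ x : P, Nat.card (fixedSub φ (Subgroup.zpowers x))) ^ p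
            = ∏ i : Fin p, ∏ x : P, Nat.card (fixedSub φ (Subgroup.zpowers (x * z ^ (i : ℕ)))) := by
              have h1 : ∀ i : Fin p, ∏ x : P, Nat.card (fixedSub φ (Subgroup.zpowers (x * z ^ (i : ℕ)))) =
                  ∏ x : P, Nat.card (fixedSub φ (Subgroup.zpowers x)) := fun i =>
                Equiv.prod_comp (Equiv.mulRight (z ^ (i : ℕ)))
                  (fun x => Nat.card (fixedSub φ (Subgroup.zpowers x)))
              rw [Finset.prod_congr rfl fun i _ => h1 i, Finset.prod_const, Finset.card_univ, Fintype.card_fin]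
          _ = ∏ x : P, ∏ i : Fin p, Nat.card (fixedSub φ (Subgroup.zpowers (x * z ^ (i : ℕ)))) :=
              Finset.prod_comm
          _ ≤ ∏ _x : P, Nat.card K := Finset.prod_le_prod' fun x _ =>
              prod_card_twist_le (φ x) (φ z) (hcommZ x) hZp hfpf _ fun i v => by
                rw [mem_fixedSub_zpowers, map_mul, map_pow, MulAut.mul_apply]
          _ = Nat.card K ^ Fintype.card P := by rw [Finset.prod_const, Finset.card_univ]
    · have hcard := Subgroup.card_eq_card_quotient_mul_card_subgroup V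
      have h1V : 1 < Nat.card V := V.one_lt_card_iff_ne_bot.mpr hV1
      have hVlt : Nat.card V < n := hn ▸ lt_of_le_of_ne (Subgroup.card_le_card_group V)
        (fun h => hVtop (Subgroup.eq_top_of_card_eq V h))
      have hQlt : Nat.card (K ⧸ V) < n := by
        rw [← hn, hcard]
        exact lt_mul_of_one_lt_right Nat.card_pos h1V
      have iV := ih _ hVlt V rfl (hK.to_subgroup V) (subAut φ V hVinv)
      have iQ := ih _ hQlt (K ⧸ V) rfl (hK.to_quotient V) (quotAut φ V hVinv)
      have hpV : ¬ p ∣ Nat.card V := fun h => hpK (h.trans (Subgroup.card_subgroup_dvd_card V))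
      simp only [card_fixedSub_split φ V hVinv hP hpV, Finset.prod_mul_distrib, mul_pow]
      rw [hcard, mul_pow]
      refine (Nat.mul_le_mul iV iQ).trans_eq ?_
      rw [mul_mul_mul_comm, mul_comm (Nat.card V ^ Fintype.card P)]

end Cfsg.Agent.Lib.Coprime
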